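import Groth.Agent.Comod33.Semisimple
import Groth.Prelude.Def_GLin

/-!
Consequences of linear reductivity: semisimplicity of all comodules, the natural Reynolds projection.
-/

universe u v w w'

open TensorProduct HopfRep

noncomputable section

namespace Groth.Agent.LinRed34

open Groth.Agent.Comod33

variable {k : Type u} [Field k] {A : Type v} [CommRing A] [Bialgebra k A]
variable {V : Type w} [AddCommGroup V] [Module k V] [Comod k A V]
variable {W : Type w'} [AddCommGroup W] [Module k W] [Comod k A W]

local notation "Λ" => WithConv (A →ₗ[k] k)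

theorem isSemisimple_regular (hG : IsLinearlyReductive k A) : IsSemisimpleModule Λ A := by
  refine isSemisimpleModule_of_forall_gen fun v => ?_
  let S := toSub (gen (k := k) (A := A) v) (isSubcomod_gen v)
  letI := subComod S
  have hfin : Module.Finite k (S.restrictScalars k) := finite_gen v
  have := isSemisimpleComod_iff.1 (hG (S.restrictScalars k) hfin)
  exact IsSemisimpleModule.congr (M := ↥(S.restrictScalars k)) (N := ↥S) (subComodEquiv S).symm

theorem isSemisimpleModule (hG : IsLinearlyReductive k A) (V : Type w) [AddCommGroup V] [Module k V]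
    [Comod k A V] : IsSemisimpleModule Λ V := by
  have := isSemisimple_regular hG
  exact isSemisimple_of_regular V

theorem isSemisimpleComod (hG : IsLinearlyReductive k A) (V : Type w) [AddCommGroup V] [Module k V]
    [Comod k A V] : IsSemisimpleComod k A V :=
  isSemisimpleComod_iff.2 (isSemisimpleModule hG V)

theorem mem_fixedPts_iff (v : V) :
    v ∈ fixedPts k A V ↔ ∀ f : A →ₗ[k] k, dact f v = f 1 • v := by
  show Comod.coact (k := k) (A := A) v = v ⊗ₜ[k] (1 : A) ↔ _
  constructor
  · intro h f; rw [dact_apply, h, rc_tmul]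
  · intro h; exact eq_of_rc fun f => by rw [rc_tmul, ← dact_apply, h f]

theorem map_mem_fixedPts {φ : V →ₗ[k] W} (hφ : Hoch.IsComodHom A φ) {v : V}
    (hv : v ∈ fixedPts k A V) : φ v ∈ fixedPts k A W := by
  rw [mem_fixedPts_iff] at hv ⊢
  intro f
  rw [← IsComodHom.dact hφ, hv, map_smul]

variable (k A V) in
/-- The fixed vectors as a submodule over the convolution algebra. -/
def fixedΛ : Submodule Λ V where
  carrier := fixedPts k A V
  add_mem' := (fixedPts k A V).add_mem
  zero_mem' := (fixedPts k A V).zero_mem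
  smul_mem' f v hv := by
    rw [smul_def]
    show dact f.ofConv v ∈ fixedPts k A V
    rw [(mem_fixedPts_iff v).1 hv]
    exact Submodule.smul_mem _ _ hv

@[simp] theorem mem_fixedΛ (v : V) : v ∈ fixedΛ k A V ↔ v ∈ fixedPts k A V := Iff.rfl

/-- A comodule map sends a complement of the fixed vectors into any such complement. -/
theorem map_compl_le (hG : IsLinearlyReductive k A) (φ : V →ₗ[Λ] W) {C : Submodule Λ V}
    {C' : Submodule Λ W} (hC : Disjoint (fixedΛ k A V) C) (hC' : IsCompl (fixedΛ k A W) C') :
    C.map φ ≤ C' := by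
  have := isSemisimpleModule hG V
  let ψ : C →ₗ[Λ] fixedΛ k A W := (Submodule.projectionOnto _ C' hC') ∘ₗ φ ∘ₗ C.subtype
  have : IsSemisimpleModule Λ C := inferInstance
  obtain ⟨D, hD⟩ := ((isSemisimpleModule_iff _ _).1 (inferInstance : IsSemisimpleModule Λ C)).exists_isCompl (LinearMap.ker ψ)
  have hinj : ∀ d ∈ D, ψ d = 0 → d = 0 := fun d hd h0 =>
    (Submodule.disjoint_def.1 hD.disjoint) d (LinearMap.mem_ker.2 h0) hd
  have hD0 : D = ⊥ := by
    rw [Submodule.eq_bot_iff]
    intro d hd
    have hfix : (d : V) ∈ fixedPts k A V := by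
      rw [mem_fixedPts_iff]
      intro f
      have h1 : WithConv.toConv f • d + (-(f 1)) • d ∈ D :=
        D.add_mem (D.smul_mem _ hd) (D.smul_of_tower_mem _ hd)
      have h3 : WithConv.toConv f • (ψ d : W) = f 1 • (ψ d : W) := by
        rw [smul_def]; exact (mem_fixedPts_iff _).1 (ψ d).2 f
      have h2 : ψ (WithConv.toConv f • d + (-(f 1)) • d) = 0 := by
        rw [map_add, map_smul, LinearMap.map_smul_of_tower]
        apply Subtype.ext
        show WithConv.toConv f • (ψ d : W) + (-(f 1)) • (ψ d : W) = 0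
        rw [h3, neg_smul, add_neg_cancel]
      have h4 : WithConv.toConv f • (d : V) + (-(f 1)) • (d : V) = 0 := congrArg Subtype.val (hinj _ h1 h2)
      rw [neg_smul, ← sub_eq_add_neg, sub_eq_zero] at h4
      exact h4
    exact Subtype.ext ((Submodule.disjoint_def.1 hC) _ hfix d.2)
  have hker : LinearMap.ker ψ = ⊤ := by
    have := hD.sup_eq_top
    rwa [hD0, sup_bot_eq] at this
  rintro _ ⟨c, hc, rfl⟩
  have h0 : ψ ⟨c, hc⟩ = 0 := LinearMap.mem_ker.1 (hker ▸ Submodule.mem_top)
  rwa [LinearMap.comp_apply, LinearMap.comp_apply, Submodule.subtype_apply,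
    Submodule.projectionOnto_apply_eq_zero_iff] at h0

variable (k A V) in
/-- Some complement of the fixed vectors. -/
def compl (hG : IsLinearlyReductive k A) : Submodule Λ V :=
  haveI := isSemisimpleModule hG V
  (exists_isCompl (fixedΛ k A V)).choose

theorem isCompl_compl (hG : IsLinearlyReductive k A) : IsCompl (fixedΛ k A V) (compl k A V hG) :=
  haveI := isSemisimpleModule hG V
  (exists_isCompl (fixedΛ k A V)).choose_spec

variable (k A V) in
/-- The Reynolds projection of a comodule of a linearly reductive group onto its fixed vectors. -/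
def rey (hG : IsLinearlyReductive k A) : V →ₗ[k] V :=
  (((fixedΛ k A V).subtype ∘ₗ Submodule.projectionOnto _ _ (isCompl_compl hG)) : V →ₗ[Λ] V).restrictScalars k

theorem rey_mem (hG : IsLinearlyReductive k A) (v : V) : rey k A V hG v ∈ fixedPts k A V :=
  (Submodule.projectionOnto _ _ (isCompl_compl hG) v).2

theorem rey_of_fixed (hG : IsLinearlyReductive k A) {v : V} (hv : v ∈ fixedPts k A V) :
    rey k A V hG v = v :=
  congrArg Subtype.val (Submodule.projectionOnto_apply_left (isCompl_compl hG) ⟨v, hv⟩)

/-- The Reynolds projection is natural. -/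
theorem map_rey (hG : IsLinearlyReductive k A) {φ : V →ₗ[k] W} (hφ : Hoch.IsComodHom A φ) (v : V) :
    φ (rey k A V hG v) = rey k A W hG (φ v) := by
  let ψ := toDualLinear (A := A) φ hφ
  obtain ⟨a, ha, c, hc, rfl⟩ := Submodule.mem_sup.1
    ((isCompl_compl (V := V) hG).sup_eq_top.ge (Submodule.mem_top (x := v)))
  have e1 : rey k A V hG c = 0 :=
    congrArg Subtype.val ((Submodule.projectionOnto_apply_eq_zero_iff (isCompl_compl hG)).2 hc)
  have e2 : rey k A W hG (φ c) = 0 :=
    congrArg Subtype.val ((Submodule.projectionOnto_apply_eq_zero_iff (isCompl_compl hG)).2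
      (map_compl_le hG ψ (isCompl_compl hG).disjoint (isCompl_compl hG) ⟨c, hc, rfl⟩))
  rw [map_add, map_add, map_add, map_add, e1, e2, rey_of_fixed hG ha,
    rey_of_fixed hG (map_mem_fixedPts hφ ha), map_zero]

/-- Taking fixed vectors is exact. -/
theorem exists_fixed_preimage (hG : IsLinearlyReductive k A) {φ : V →ₗ[k] W}
    (hφ : Hoch.IsComodHom A φ) {w : W} (hw : w ∈ fixedPts k A W) (hr : w ∈ LinearMap.range φ) :
    ∃ v ∈ fixedPts k A V, φ v = w := by
  obtain ⟨v, rfl⟩ := hr
  exact ⟨rey k A V hG v, rey_mem hG v, by rw [map_rey hG hφ, rey_of_fixed hG hw]⟩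

theorem isComodHom_subtype_toSub (U : Submodule k V) (hU : IsSubcomod (k := k) (A := A) U) :
    @Hoch.IsComodHom k _ A _ _ _ U _ _ (ComodSub.Comod.restr ‹Comod k A V› U hU) V _ _ ‹Comod k A V› U.subtype :=
  ComodSub.isComodHom_subtype _ _ _

/-- The Reynolds projection preserves subcomodules. -/
theorem rey_mem_of_isSubcomod (hG : IsLinearlyReductive k A) {U : Submodule k V}
    (hU : IsSubcomod (k := k) (A := A) U) {v : V} (hv : v ∈ U) : rey k A V hG v ∈ U := by
  letI := ComodSub.Comod.restr ‹Comod k A V› U hU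
  have h := map_rey hG (isComodHom_subtype_toSub U hU) ⟨v, hv⟩
  simp only [Submodule.subtype_apply] at h
  rw [← h]
  exact (rey k A U hG ⟨v, hv⟩).2

end Groth.Agent.LinRed34
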