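import Groth.Agent.LinRed34.Ring
import Mathlib.RingTheory.Jacobson.Ring
import Mathlib.FieldTheory.IsAlgClosed.Basic

/-!
Points of the affine quotient lift; orbit ideals.
-/

universe u v w

open TensorProduct HopfRep

noncomputable section

namespace Groth.Agent.LinRed34

open Groth.Agent.Comod33

variable {k : Type u} [Field k]

/-- A proper ideal of a finitely generated algebra over an algebraically closed field has a point. -/
theorem exists_point [IsAlgClosed k] {R : Type w} [CommRing R] [Algebra k R] [Algebra.FiniteType k R]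
    (I : Ideal R) (hI : I ≠ ⊤) : ∃ x : R →ₐ[k] k, ∀ f ∈ I, x f = 0 := by
  obtain ⟨m, hm, hle⟩ := Ideal.exists_le_maximal I hI
  let _ : Field (R ⧸ m) := Ideal.Quotient.field m
  have : Algebra.FiniteType k (R ⧸ m) :=
    Algebra.FiniteType.of_surjective (Ideal.Quotient.mkₐ k m) Ideal.Quotient.mk_surjective
  have : Module.Finite k (R ⧸ m) := finite_of_finite_type_of_isJacobsonRing k _
  let e : k ≃ₐ[k] R ⧸ m := AlgEquiv.ofBijective (Algebra.ofId k _)
    IsAlgClosed.algebraMap_bijective_of_isIntegral
  refine ⟨e.symm.toAlgHom.comp (Ideal.Quotient.mkₐ k m), fun f hf => ?_⟩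
  show e.symm (Ideal.Quotient.mk m f) = 0
  rw [Ideal.Quotient.eq_zero_iff_mem.2 (hle hf), map_zero]

variable {A : Type v} [CommRing A] [Bialgebra k A]
variable {R : Type w} [CommRing R] [Algebra k R] [Comod k A R] [GLin.IsCoactAlg k A R]

/-- A point of the quotient vanishing on the invariants of a stable ideal lifts to a point vanishing on it. -/
theorem exists_point_over [IsAlgClosed k] [Algebra.FiniteType k R] (hG : IsLinearlyReductive k A)
    (I : Ideal R) (hI : IsSubcomod (k := k) (A := A) (I.restrictScalars k))
    (φ : GLin.invariants k A R →ₐ[k] k) (hφ : ∀ f : GLin.invariants k A R, (f : R) ∈ I → φ f = 0) :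
    ∃ x : R →ₐ[k] k, (∀ f ∈ I, x f = 0) ∧ ∀ f : GLin.invariants k A R, x (f : R) = φ f := by
  have hne : I ⊔ (RingHom.ker φ).map (GLin.invariants k A R).val ≠ ⊤ := by
    intro h
    obtain ⟨i, hi, z, hz, hiz⟩ := Submodule.mem_sup.1 ((Ideal.eq_top_iff_one _).1 h)
    have hiI : rey k A R hG i ∈ I := rey_mem_of_isSubcomod hG hI hi
    have h1 : φ (reyInv (R := R) hG i) = 0 := hφ _ hiI
    have h2 : φ (reyInv (R := R) hG z) = 0 := by
      have key : ∀ y ∈ (RingHom.ker φ).map (GLin.invariants k A R).val, ∀ r,
          φ (reyInv (R := R) hG (r * y)) = 0 := by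
        intro y hy
        induction hy using Submodule.span_induction with
        | mem y hy =>
          obtain ⟨a, ha, rfl⟩ := hy
          intro r
          rw [mul_comm, show (GLin.invariants k A R).val a * r = a • r from rfl, map_smul, smul_eq_mul,
            map_mul, show φ a = 0 from ha, zero_mul]
        | zero => simp
        | add x y _ _ hx hy => intro r; rw [mul_add, map_add, map_add, hx, hy, add_zero]
        | smul c x _ hx => intro r; rw [smul_eq_mul, ← mul_assoc]; exact hx _
      simpa using key z hz 1
    have h3 : φ (reyInv (R := R) hG ((1 : GLin.invariants k A R) : R)) = 1 := by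
      rw [reyInv_coe, map_one]
    rw [show ((1 : GLin.invariants k A R) : R) = i + z from hiz.symm, map_add, map_add, h1, h2, add_zero] at h3
    exact zero_ne_one h3
  obtain ⟨x, hx⟩ := exists_point (k := k) _ hne
  refine ⟨x, fun f hf => hx f (Ideal.mem_sup_left hf), fun f => ?_⟩
  have hk : f - algebraMap k _ (φ f) ∈ RingHom.ker φ := by simp [RingHom.mem_ker]
  have h := hx _ (Ideal.mem_sup_right (Ideal.mem_map_of_mem (GLin.invariants k A R).val hk))
  simp only [map_sub, AlgHom.commutes, Subalgebra.coe_val, Algebra.algebraMap_self, RingHom.id_apply] at h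
  exact sub_eq_zero.1 h

variable (A) in
/-- The orbit morphism commutes with the coactions. -/
theorem isComodHom_orbitHom (x : R →ₐ[k] k) :
    Hoch.IsComodHom A (GLin.orbitHom k A x).toLinearMap := by
  refine (isComodHom_iff _).2 fun f v => ?_
  have h0 : ∀ z : R, GLin.orbitHom k A x z =
      TensorProduct.lid k A (x.toLinearMap.rTensor A (Comod.coact (k := k) (A := A) z)) := by
    intro z
    show (Algebra.TensorProduct.lid k A) (Algebra.TensorProduct.map x (AlgHom.id k A) (Comod.coact (k := k) (A := A) z)) = _
    generalize Comod.coact (k := k) (A := A) z = t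
    induction t using TensorProduct.induction_on with
    | zero => simp
    | tmul r a => simp
    | add p q hp hq => simp only [map_add, hp, hq]
  show GLin.orbitHom k A x (dact f v) = rc f (CoalgebraStruct.comul (R := k) (GLin.orbitHom k A x v))
  rw [h0, h0, coact_dact]
  generalize Comod.coact (k := k) (A := A) v = t
  induction t using TensorProduct.induction_on with
  | zero => simp
  | tmul r a => simp
  | add p q hp hq => simp only [map_add, hp, hq]

theorem isSubcomod_ker_orbitHom (x : R →ₐ[k] k) :
    IsSubcomod (k := k) (A := A) ((RingHom.ker (GLin.orbitHom k A x)).restrictScalars k) :=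
  isSubcomod_ker (isComodHom_orbitHom A x)

theorem orbitHom_invariant (x : R →ₐ[k] k) {f : R} (hf : f ∈ GLin.invariants k A R) :
    GLin.orbitHom k A x f = algebraMap k A (x f) := by
  show (Algebra.TensorProduct.lid k A) (Algebra.TensorProduct.map x (AlgHom.id k A) (Comod.coact (k := k) (A := A) f)) = _
  rw [show Comod.coact (k := k) (A := A) f = f ⊗ₜ[k] (1 : A) from hf]
  simp [Algebra.algebraMap_eq_smul_one]

theorem act_eq_orbitHom (g : A →ₐ[k] k) (x : R →ₐ[k] k) (f : R) :
    x (Comod.act k A R g f) = g (GLin.orbitHom k A x f) := by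
  show x ((TensorProduct.rid k R) (g.toLinearMap.lTensor R (Comod.coact (k := k) (A := A) f))) =
    g ((Algebra.TensorProduct.lid k A) (Algebra.TensorProduct.map x (AlgHom.id k A) (Comod.coact (k := k) (A := A) f)))
  generalize Comod.coact (k := k) (A := A) f = t
  induction t using TensorProduct.induction_on with
  | zero => simp
  | tmul r a => simp [mul_comm]
  | add p q hp hq => simp only [map_add, hp, hq]

/-- Two points have the same invariants iff their orbit closures meet. -/
theorem forall_invariants_eq_iff [IsAlgClosed k] [Algebra.FiniteType k R] [Algebra.FiniteType k A]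
    (hG : IsLinearlyReductive k A) (x y : R →ₐ[k] k) :
    (∀ f ∈ GLin.invariants k A R, x f = y f) ↔
      ∃ z : R →ₐ[k] k,
        (∀ f : R, (∀ g : A →ₐ[k] k, x (Comod.act k A R g f) = 0) → z f = 0) ∧
        (∀ f : R, (∀ g : A →ₐ[k] k, y (Comod.act k A R g f) = 0) → z f = 0) := by
  constructor
  · intro h
    let Jx := RingHom.ker (GLin.orbitHom k A x)
    let Jy := RingHom.ker (GLin.orbitHom k A y)
    have hsub : IsSubcomod (k := k) (A := A) ((Jx ⊔ Jy).restrictScalars k) := by
      rw [Submodule.restrictScalars_sup]
      exact isSubcomod_sup (isSubcomod_ker_orbitHom x) (isSubcomod_ker_orbitHom y)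
    have hz : ∀ f : GLin.invariants k A R, (f : R) ∈ Jx ⊔ Jy → x (f : R) = 0 := by
      intro f hf
      obtain ⟨a, ha, b, hb, hab⟩ := Submodule.mem_sup.1 hf
      have e : (f : R) = rey k A R hG a + rey k A R hG b := by
        rw [← map_add, hab, rey_of_fixed hG f.2]
      have key : ∀ (w : R →ₐ[k] k) (c : R), c ∈ RingHom.ker (GLin.orbitHom k A w) → w (rey k A R hG c) = 0 := by
        intro w c hc
        have h1 : rey k A R hG c ∈ RingHom.ker (GLin.orbitHom k A w) :=
          rey_mem_of_isSubcomod hG (isSubcomod_ker_orbitHom w) hc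
        rw [RingHom.mem_ker, orbitHom_invariant w (rey_mem hG c)] at h1
        have h2 := congrArg (Coalgebra.counit (R := k)) h1
        simpa using h2
      rw [e, map_add, key x a ha, h _ (rey_mem hG b), key y b hb, add_zero]
    obtain ⟨z, hz1, -⟩ := exists_point_over hG (Jx ⊔ Jy) hsub (x.comp (GLin.invariants k A R).val) hz
    have : IsJacobsonRing A := isJacobsonRing_of_finiteType (A := k)
    have key : ∀ (w : R →ₐ[k] k), RingHom.ker (GLin.orbitHom k A w) ≤ Jx ⊔ Jy →
        ∀ f : R, (∀ g : A →ₐ[k] k, w (Comod.act k A R g f) = 0) → z f = 0 := by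
      intro w hw f hf
      have hnil : GLin.orbitHom k A w f ∈ (⊥ : Ideal A).jacobson := by
        refine Ideal.mem_sInf.2 fun {m} hm => ?_
        have hmax : m.IsMaximal := hm.2
        obtain ⟨g, hg⟩ := exists_point (k := k) m hmax.ne_top
        have hker : m = RingHom.ker g := hmax.eq_of_le (RingHom.ker_ne_top _) fun a ha => hg a ha
        rw [hker, RingHom.mem_ker, ← act_eq_orbitHom]
        exact hf g
      rw [← Ideal.radical_eq_jacobson] at hnil
      obtain ⟨n, hn⟩ := hnil
      rw [Submodule.mem_bot, ← map_pow] at hn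
      have := hz1 _ (hw (RingHom.mem_ker.2 hn))
      rw [map_pow] at this
      exact pow_eq_zero_iff'.1 this |>.1
    exact ⟨z, key x le_sup_left, key y le_sup_right⟩
  · rintro ⟨z, hzx, hzy⟩ f hf
    have key : ∀ w : R →ₐ[k] k, ∀ g : A →ₐ[k] k, w (Comod.act k A R g (f - algebraMap k R (w f))) = 0 := by
      intro w g
      rw [act_eq_orbitHom, map_sub, orbitHom_invariant w hf, AlgHom.commutes, sub_self, map_zero]
    have h1 := hzx _ (key x)
    have h2 := hzy _ (key y)
    simp only [map_sub, AlgHom.commutes, Algebra.algebraMap_self, RingHom.id_apply, sub_eq_zero] at h1 h2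
    rw [← h1, h2]

end Groth.Agent.LinRed34
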