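import Groth.Agent.LinRed34.Ring
import Groth.Agent.Hopf34.Fin
import Mathlib.RingTheory.FiniteType
import Mathlib.RingTheory.Polynomial.Basic
import Mathlib.Algebra.Algebra.Operations

/-!
Finite generation of invariant rings of linearly reductive groups, through a Rees algebra.
-/

universe u v w

open TensorProduct HopfRep

noncomputable section

namespace Groth.Agent.LinRed34

open Groth.Agent.Comod33

variable {k : Type u} [Field k] {A : Type v} [CommRing A] [Bialgebra k A]
variable {R : Type w} [CommRing R] [Algebra k R] [Comod k A R] [GLin.IsCoactAlg k A R]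

theorem isSubcomod_mul {U W : Submodule k R} (hU : IsSubcomod (k := k) (A := A) U)
    (hW : IsSubcomod (k := k) (A := A) W) : IsSubcomod (k := k) (A := A) (U * W) := by
  intro x hx
  induction hx using Submodule.mul_induction_on' with
  | mem_mul_mem u hu w hw =>
    obtain ⟨a, ha⟩ := hU u hu
    obtain ⟨b, hb⟩ := hW w hw
    rw [GLin.IsCoactAlg.coact_mul, ← ha, ← hb]
    clear ha hb
    induction a using TensorProduct.induction_on with
    | zero => simp
    | add p q hp hq => rw [map_add, add_mul]; exact Submodule.add_mem _ hp hq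
    | tmul p c =>
      induction b using TensorProduct.induction_on with
      | zero => simp
      | add p' q' hp hq => rw [map_add, mul_add]; exact Submodule.add_mem _ hp hq
      | tmul p' d =>
        exact ⟨(⟨(p : R) * p', Submodule.mul_mem_mul p.2 p'.2⟩ : (U * W : Submodule k R)) ⊗ₜ[k] (c * d),
          by simp⟩
  | add x _ y _ hx hy => rw [map_add]; exact Submodule.add_mem _ hx hy

theorem isSubcomod_one : IsSubcomod (k := k) (A := A) (1 : Submodule k R) := by
  intro x hx
  obtain ⟨c, rfl⟩ := Submodule.mem_one.1 hx
  refine ⟨(⟨1, Submodule.one_le.1 le_rfl⟩ : (1 : Submodule k R)) ⊗ₜ[k] algebraMap k A c, ?_⟩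
  simp only [LinearMap.rTensor_tmul, Submodule.subtype_apply, Algebra.algebraMap_eq_smul_one,
    map_smul, GLin.IsCoactAlg.coact_one, TensorProduct.tmul_smul]
  rfl

theorem isSubcomod_pow {U : Submodule k R} (hU : IsSubcomod (k := k) (A := A) U) :
    ∀ n : ℕ, IsSubcomod (k := k) (A := A) (U ^ n)
  | 0 => by rw [pow_zero]; exact isSubcomod_one
  | n + 1 => by rw [pow_succ]; exact isSubcomod_mul (isSubcomod_pow hU n) hU

omit [Comod k A R] [GLin.IsCoactAlg k A R] in
theorem coeff_mem_pow {U : Submodule k R} {p : Polynomial R}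
    (hp : p ∈ Algebra.adjoin k (Polynomial.monomial 1 '' (U : Set R))) :
    ∀ n, p.coeff n ∈ U ^ n := by
  induction hp using Algebra.adjoin_induction with
  | mem p hp =>
    obtain ⟨u, hu, rfl⟩ := hp
    intro n
    rw [Polynomial.coeff_monomial]
    split_ifs with h
    · subst h; rwa [pow_one]
    · exact zero_mem _
  | algebraMap c =>
    intro n
    rw [Polynomial.algebraMap_apply, Polynomial.coeff_C]
    split_ifs with h
    · subst h; rw [pow_zero]; exact Submodule.algebraMap_mem c
    · exact zero_mem _
  | add p q _ _ hp hq => intro n; rw [Polynomial.coeff_add]; exact add_mem (hp n) (hq n)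
  | mul p q _ _ hp hq =>
    intro n
    rw [Polynomial.coeff_mul]
    refine sum_mem fun x hx => ?_
    rw [← Finset.HasAntidiagonal.mem_antidiagonal.1 hx, pow_add]
    exact Submodule.mul_mem_mul (hp _) (hq _)

omit [Comod k A R] [GLin.IsCoactAlg k A R] in
theorem monomial_mem_adjoin {U : Submodule k R} :
    ∀ (n : ℕ) {a : R}, a ∈ U ^ n →
      Polynomial.monomial n a ∈ Algebra.adjoin k (Polynomial.monomial 1 '' (U : Set R))
  | 0, a, ha => by
    rw [pow_zero, Submodule.mem_one] at ha
    obtain ⟨c, rfl⟩ := ha
    rw [Polynomial.monomial_zero_left, ← Polynomial.algebraMap_apply]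
    exact Subalgebra.algebraMap_mem _ c
  | n + 1, a, ha => by
    rw [pow_succ] at ha
    induction ha using Submodule.mul_induction_on' with
    | mem_mul_mem x hx y hy =>
      rw [← Polynomial.monomial_mul_monomial]
      exact mul_mem (monomial_mem_adjoin n hx) (Algebra.subset_adjoin ⟨y, hy, rfl⟩)
    | add x _ y _ hx hy => rw [map_add]; exact add_mem hx hy

/-- The invariant ring of a linearly reductive group on an algebra of finite type is of finite type. -/
theorem invariants_fg (hG : IsLinearlyReductive k A) [Algebra.FiniteType k R] :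
    (GLin.invariants k A R).FG := by
  classical
  obtain ⟨g, hg⟩ := (inferInstance : Algebra.FiniteType k R).out
  obtain ⟨U, hUfin, hU, hgU, -⟩ := Hopf34.exists_finite_isSubcomod (k := k) (A := A)
    (insert (1 : R) (g : Set R)) ((g.finite_toSet).insert 1)
  obtain ⟨b, hb⟩ := Module.Finite.iff_fg.1 hUfin
  set S := Algebra.adjoin k (Polynomial.monomial 1 '' (U : Set R)) with hS
  have hSfg : S.FG := by
    refine ⟨b.image (Polynomial.monomial 1), le_antisymm ?_ ?_⟩
    · rw [Finset.coe_image]
      exact Algebra.adjoin_mono (Set.image_mono fun x hx => hb ▸ Submodule.subset_span hx)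
    · refine Algebra.adjoin_le ?_
      rintro _ ⟨u, hu, rfl⟩
      rw [← hb] at hu
      have : Polynomial.monomial 1 u ∈ Submodule.span k (Polynomial.monomial 1 '' (b : Set R)) := by
        have h := Submodule.mem_map_of_mem (f := (Polynomial.monomial 1 : R →ₗ[R] Polynomial R).restrictScalars k) hu
        rwa [Submodule.map_span] at h
      rw [Finset.coe_image]
      exact Algebra.span_le_adjoin k _ this
  have : Algebra.FiniteType k S := Subalgebra.fg_iff_finiteType _ |>.1 hSfg
  have : IsNoetherianRing S := Algebra.FiniteType.isNoetherianRing k S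
  let T : Set S := {p | ∃ n : ℕ, 0 < n ∧ ∃ a ∈ GLin.invariants k A R, a ∈ U ^ n ∧
    (p : Polynomial R) = Polynomial.monomial n a}
  obtain ⟨T', hT', hspan⟩ := (Submodule.fg_span_iff_fg_span_finset_subset T).1
    (IsNoetherian.noetherian (Submodule.span S T))
  choose! deg hdeg coef hcoef hcoefU heq using fun (p : S) (hp : p ∈ T') => hT' hp
  refine ⟨T'.image coef, le_antisymm ?_ ?_⟩
  · refine Algebra.adjoin_le ?_
    rw [Finset.coe_image]
    rintro _ ⟨p, hp, rfl⟩
    exact hcoef p hp
  have h1U : (1 : Submodule k R) ≤ U := by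
    rw [Submodule.one_le]
    exact hgU (Set.mem_insert _ _)
  have key : ∀ (n : ℕ), ∀ a ∈ GLin.invariants k A R, a ∈ U ^ n →
      a ∈ Algebra.adjoin k (↑(T'.image coef) : Set R) := by
    intro n
    induction n using Nat.strong_induction_on with
    | _ n ih =>
      intro a ha haU
      rcases Nat.eq_zero_or_pos n with h0 | hpos
      · subst h0
        rw [pow_zero, Submodule.mem_one] at haU
        obtain ⟨c, rfl⟩ := haU
        exact Subalgebra.algebraMap_mem _ c
      let p : S := ⟨Polynomial.monomial n a, monomial_mem_adjoin n haU⟩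
      have hp : p ∈ Submodule.span S (↑T' : Set S) :=
        hspan ▸ Submodule.subset_span ⟨n, hpos, a, ha, haU, rfl⟩
      obtain ⟨s, -, hs⟩ := Submodule.mem_span_finset.1 hp
      have hsum : a = ∑ q ∈ T', if deg q ≤ n then (s q : Polynomial R).coeff (n - deg q) * coef q else 0 := by
        have h := congrArg (fun z : S => (z : Polynomial R).coeff n) hs
        simp only [AddSubmonoidClass.coe_finsetSum, Polynomial.finsetSum_coeff, smul_eq_mul, Subalgebra.coe_mul] at h
        rw [show ((p : Polynomial R)).coeff n = a from Polynomial.coeff_monomial_same n a] at h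
        rw [← h]
        refine Finset.sum_congr rfl fun q hq => ?_
        rw [heq q hq]
        split_ifs with hle
        · conv_lhs => rw [show n = (n - deg q) + deg q from (Nat.sub_add_cancel hle).symm]
          rw [Polynomial.coeff_mul_monomial]
        · rw [mul_comm, ← Polynomial.C_mul_X_pow_eq_monomial, mul_assoc, Polynomial.coeff_C_mul,
            Polynomial.coeff_X_pow_mul', if_neg hle, mul_zero]
      rw [← rey_of_fixed hG (show a ∈ fixedPts k A R from ha), hsum, map_sum]
      refine sum_mem fun q hq => ?_
      split_ifs with hle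
      · rw [rey_mul_invariant hG (hcoef q hq)]
        refine mul_mem (ih _ (Nat.sub_lt hpos (hdeg q hq)) _ (rey_mem hG _) ?_)
          (Algebra.subset_adjoin (Finset.mem_coe.2 (Finset.mem_image_of_mem coef hq)))
        exact rey_mem_of_isSubcomod hG (isSubcomod_pow hU _) (coeff_mem_pow (s q).2 _)
      · rw [map_zero]; exact zero_mem _
  intro a ha
  have htop : a ∈ Algebra.adjoin k (g : Set R) := hg ▸ Algebra.mem_top
  suffices ∃ n, a ∈ U ^ n by
    obtain ⟨n, hn⟩ := this
    exact key n a ha hn
  clear ha
  induction htop using Algebra.adjoin_induction with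
  | mem x hx => exact ⟨1, by rw [pow_one]; exact hgU (Set.mem_insert_of_mem _ hx)⟩
  | algebraMap c => exact ⟨0, by rw [pow_zero]; exact Submodule.algebraMap_mem c⟩
  | add x y _ _ hx hy =>
    obtain ⟨i, hi⟩ := hx
    obtain ⟨j, hj⟩ := hy
    exact ⟨max i j, add_mem (pow_le_pow_right' h1U (le_max_left i j) hi)
      (pow_le_pow_right' h1U (le_max_right i j) hj)⟩
  | mul x y _ _ hx hy =>
    obtain ⟨i, hi⟩ := hx
    obtain ⟨j, hj⟩ := hy
    exact ⟨i + j, by rw [pow_add]; exact Submodule.mul_mem_mul hi hj⟩

theorem finiteType_invariants (hG : IsLinearlyReductive k A) [Algebra.FiniteType k R] :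
    Algebra.FiniteType k (GLin.invariants k A R) :=
  (Subalgebra.fg_iff_finiteType _).1 (invariants_fg hG)

end Groth.Agent.LinRed34
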