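import Groth.Agent.LinRed34.Basic
import Groth.Prelude.Def_W4c1tameactTame
import Mathlib.RingTheory.Noetherian.Basic

/-!
Invariants of coactions on algebras and Hopf modules of a linearly reductive group.
-/

universe u v w w'

open TensorProduct HopfRep

noncomputable section

namespace Groth.Agent.LinRed34

open Groth.Agent.Comod33

section Hom

variable {k : Type u} [CommRing k] {A : Type v} [CommRing A] [Bialgebra k A]
variable {R : Type w} [CommRing R] [Algebra k R] [Comod k A R]
variable {M : Type w'} [AddCommGroup M] [Module k M] [Module R M] [IsScalarTower k R M] [Comod k A M]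
  [TameAct.IsHopfMod k A R M]

/-- Multiplication by an invariant commutes with the coaction. -/
theorem isComodHom_smul_invariant {a : R} (ha : a ∈ fixedPts k A R) :
    Hoch.IsComodHom A (Algebra.lsmul k k M a) := by
  refine LinearMap.ext fun m => ?_
  simp only [LinearMap.comp_apply, Algebra.lsmul_coe, TameAct.IsHopfMod.coact_smul]
  rw [show Comod.coact (k := k) (A := A) a = a ⊗ₜ[k] (1 : A) from ha]
  generalize Comod.coact (k := k) (A := A) m = y
  induction y using TensorProduct.induction_on with
  | zero => simp
  | tmul n b => simp
  | add y z hy hz => simp [hy, hz]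

variable (R) in
/-- `r ↦ r • m` -/
def orbMap (m : M) : R →ₗ[k] M := (LinearMap.toSpanSingleton R M m).restrictScalars k

@[simp] theorem orbMap_apply (m : M) (r : R) : orbMap (k := k) R m r = r • m := rfl

theorem isComodHom_orbMap {m : M} (hm : m ∈ fixedPts k A M) :
    Hoch.IsComodHom A (orbMap (k := k) R m) := by
  refine LinearMap.ext fun r => ?_
  simp only [LinearMap.comp_apply, orbMap_apply, TameAct.IsHopfMod.coact_smul]
  rw [show Comod.coact (k := k) (A := A) m = m ⊗ₜ[k] (1 : A) from hm]
  generalize Comod.coact (k := k) (A := A) r = y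
  induction y using TensorProduct.induction_on with
  | zero => simp
  | tmul n b => simp
  | add y z hy hz => simp [hy, hz]

omit M in
theorem isHopfMod_self [GLin.IsCoactAlg k A R] : TameAct.IsHopfMod k A R R := by
  refine ⟨fun b m => ?_⟩
  rw [smul_eq_mul, GLin.IsCoactAlg.coact_mul]
  generalize Comod.coact (k := k) (A := A) b = x
  generalize Comod.coact (k := k) (A := A) m = y
  induction x using TensorProduct.induction_on with
  | zero => simp
  | tmul p q =>
    induction y using TensorProduct.induction_on with
    | zero => simp
    | tmul r s => simp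
    | add u v hu hv => simp only [map_add, mul_add, hu, hv]
  | add u v hu hv => simp only [map_add, LinearMap.add_apply, add_mul, hu, hv]

end Hom

section Antipode

variable {k : Type u} [CommRing k] {A : Type v} [CommRing A] [HopfAlgebra k A]
variable {R : Type w} [CommRing R] [Algebra k R] [Comod k A R]

/-- `y ⊗ 1 = Σ ρ(y₀) (1 ⊗ S y₁)` -/
theorem untwist (y : R) :
    LinearMap.mul' k (R ⊗[k] A) (TensorProduct.map (Comod.coact (k := k) (A := A))
      ((Algebra.TensorProduct.includeRight : A →ₐ[k] R ⊗[k] A).toLinearMap ∘ₗ HopfAlgebra.antipode k)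
      (Comod.coact (k := k) (A := A) y)) = y ⊗ₜ[k] (1 : A) := by
  have e1 : ∀ z : R ⊗[k] A, LinearMap.mul' k (R ⊗[k] A) (TensorProduct.map (Comod.coact (k := k) (A := A))
      ((Algebra.TensorProduct.includeRight : A →ₐ[k] R ⊗[k] A).toLinearMap ∘ₗ HopfAlgebra.antipode k) z) =
      (LinearMap.mul' k A ∘ₗ (HopfAlgebra.antipode k).lTensor A).lTensor R
        (TensorProduct.assoc k R A A ((Comod.coact (k := k) (A := A)).rTensor A z)) := by
    intro z
    induction z using TensorProduct.induction_on with
    | zero => simp
    | add p q hp hq => simp only [map_add, hp, hq]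
    | tmul r a =>
      simp only [TensorProduct.map_tmul, LinearMap.rTensor_tmul, LinearMap.mul'_apply]
      generalize Comod.coact (k := k) (A := A) r = t
      induction t using TensorProduct.induction_on with
      | zero => simp
      | add p q hp hq => simp only [add_mul, TensorProduct.add_tmul, map_add, hp, hq]
      | tmul r' b => simp
  rw [e1]
  have h := LinearMap.congr_fun (Comod.coassoc (k := k) (A := A) (V := R)) y
  simp only [LinearMap.comp_apply, LinearEquiv.coe_coe] at h
  rw [h, ← LinearMap.comp_apply, ← LinearMap.lTensor_comp, LinearMap.comp_assoc,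
    HopfAlgebra.mul_antipode_lTensor_comul, LinearMap.lTensor_comp, LinearMap.comp_apply]
  have h2 := LinearMap.congr_fun (Comod.counit_comp (k := k) (A := A) (V := R)) y
  simp only [LinearMap.comp_apply] at h2
  rw [h2]
  simp

end Antipode

variable {k : Type u} [Field k] {A : Type v} [CommRing A] [Bialgebra k A]
variable (hG : IsLinearlyReductive k A)
variable {R : Type w} [CommRing R] [Algebra k R] [Comod k A R]
variable {M : Type w'} [AddCommGroup M] [Module k M] [Module R M] [IsScalarTower k R M] [Comod k A M]
  [TameAct.IsHopfMod k A R M]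

theorem rey_smul_invariant {a : R} (ha : a ∈ fixedPts k A R) (m : M) :
    rey k A M hG (a • m) = a • rey k A M hG m :=
  (map_rey hG (isComodHom_smul_invariant (M := M) ha) m).symm

theorem rey_smul_fixed {m : M} (hm : m ∈ fixedPts k A M) (r : R) :
    rey k A M hG (r • m) = rey k A R hG r • m :=
  (map_rey hG (isComodHom_orbMap (R := R) hm) r).symm

include hG in
/-- The invariants of a Noetherian Hopf module form a finite module over the invariant ring. -/
theorem exists_finset_fixedPts [IsNoetherian R M] :
    ∃ s : Finset M, (↑s : Set M) ⊆ (fixedPts k A M : Set M) ∧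
      ∀ m ∈ fixedPts k A M, ∃ c : M → R, (∀ y, c y ∈ fixedPts k A R) ∧ m = ∑ y ∈ s, c y • y := by
  obtain ⟨s, hs, hsp⟩ := (Submodule.fg_span_iff_fg_span_finset_subset (fixedPts k A M : Set M)).1
    (IsNoetherian.noetherian (Submodule.span R (fixedPts k A M : Set M)))
  refine ⟨s, hs, fun m hm => ?_⟩
  have hm' : m ∈ Submodule.span R (↑s : Set M) := hsp ▸ Submodule.subset_span hm
  obtain ⟨c, -, hc⟩ := Submodule.mem_span_finset.1 hm'
  refine ⟨fun y => rey k A R hG (c y), fun y => rey_mem hG _, ?_⟩
  conv_lhs => rw [← rey_of_fixed hG hm, ← hc, map_sum]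
  exact Finset.sum_congr rfl fun y hy => rey_smul_fixed hG (hs hy) _

section Alg

variable [GLin.IsCoactAlg k A R]

theorem rey_mul_invariant {a : R} (ha : a ∈ GLin.invariants k A R) (r : R) :
    rey k A R hG (r * a) = rey k A R hG r * a := by
  have : TameAct.IsHopfMod k A R R := isHopfMod_self
  exact rey_smul_fixed hG (R := R) (M := R) (show a ∈ fixedPts k A R from ha) r

/-- The Reynolds operator as a map of modules over the invariant ring. -/
def reyInv : R →ₗ[GLin.invariants k A R] GLin.invariants k A R where
  toFun r := ⟨rey k A R hG r, rey_mem hG r⟩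
  map_add' x y := Subtype.ext (map_add _ x y)
  map_smul' a r := Subtype.ext (by
    show rey k A R hG ((a : R) * r) = (a : R) * rey k A R hG r
    rw [mul_comm, rey_mul_invariant hG a.2, mul_comm])

@[simp] theorem coe_reyInv (r : R) : (reyInv (R := R) hG r : R) = rey k A R hG r := rfl

theorem reyInv_coe (a : GLin.invariants k A R) : reyInv (R := R) hG (a : R) = a :=
  Subtype.ext (rey_of_fixed hG a.2)

include hG in
theorem mem_of_coe_mem_map (J : Ideal (GLin.invariants k A R)) {a : GLin.invariants k A R}
    (ha : (a : R) ∈ J.map (GLin.invariants k A R).val) : a ∈ J := by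
  have key : ∀ x ∈ J.map (GLin.invariants k A R).val, ∀ r, reyInv (R := R) hG (r * x) ∈ J := by
    intro x hx
    induction hx using Submodule.span_induction with
    | mem x hx =>
      obtain ⟨b, hb, rfl⟩ := hx
      intro r
      rw [mul_comm, show (GLin.invariants k A R).val b * r = b • r from rfl, map_smul]
      exact J.mul_mem_right _ hb
    | zero => simp
    | add x y _ _ hx hy => intro r; rw [mul_add, map_add]; exact J.add_mem (hx r) (hy r)
    | smul c x _ hx => intro r; rw [smul_eq_mul, ← mul_assoc]; exact hx _
  have h := key _ ha 1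
  rwa [one_mul, reyInv_coe] at h

include hG in
theorem isNoetherianRing_invariants [IsNoetherianRing R] :
    IsNoetherianRing (GLin.invariants k A R) := by
  let f : Ideal (GLin.invariants k A R) → Ideal R := fun J => J.map (GLin.invariants k A R).val
  have hinj : Function.Injective f := fun J J' h' => by
    have h : J.map (GLin.invariants k A R).val = J'.map (GLin.invariants k A R).val := h'
    ext a
    exact ⟨fun ha => mem_of_coe_mem_map hG J' (h ▸ Ideal.mem_map_of_mem _ ha),
      fun ha => mem_of_coe_mem_map hG J (h.symm ▸ Ideal.mem_map_of_mem _ ha)⟩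
  have hmono : Monotone f := fun J J' h => Ideal.map_mono h
  have hf : StrictMono f := hmono.strictMono_of_injective hinj
  exact isNoetherian_iff'.2 hf.wellFoundedGT

end Alg

end Groth.Agent.LinRed34
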