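import Mathlib.RingTheory.Ideal.KrullsHeightTheorem
import Mathlib.RingTheory.Ideal.MinimalPrime.Localization
import Mathlib.RingTheory.Ideal.Cotangent
import Mathlib.RingTheory.RegularLocalRing.Defs
import Mathlib.RingTheory.Localization.Integer
import Mathlib.RingTheory.KrullDimension.NonZeroDivisors
import Mathlib.Algebra.Module.SpanRankOperations

/-!
Height of a conormally free ideal at a reduced generic point.
-/

universe u v

open IsLocalRing

namespace Groth.Agent.LinRed34

/-- Some minimal prime has quotient of full dimension. -/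
theorem exists_minimalPrime_dim (B : Type u) [CommRing B] [Nontrivial B] {d : ℕ}
    (hd : ringKrullDim B = d) : ∃ P ∈ minimalPrimes B, ringKrullDim (B ⧸ P) = d := by
  obtain ⟨l, hl⟩ := Order.le_krullDim_iff.1 (show (d : WithBot ℕ∞) ≤ Order.krullDim (PrimeSpectrum B) from hd.ge)
  obtain ⟨P, hP, hPle⟩ := Ideal.exists_minimalPrimes_le (I := ⊥) (J := l.head.asIdeal) bot_le
  refine ⟨P, hP, le_antisymm ((ringKrullDim_le_of_surjective _ Ideal.Quotient.mk_surjective).trans hd.le) ?_⟩
  rw [ringKrullDim_quotient]
  refine Order.le_krullDim_iff.2 ⟨⟨l.length, fun i => ⟨l i, ?_⟩, fun i => l.step i⟩, hl⟩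
  exact (SetLike.coe_subset_coe.2 hPle).trans (SetLike.coe_subset_coe.2
    (show l.head.asIdeal ≤ (l i).asIdeal from l.monotone (Fin.zero_le i)))

/-- At a prime where the ideal is the maximal one, a free conormal frame computes the height. -/
theorem height_eq_card_of_conormal {R : Type u} [CommRing R] [IsNoetherianRing R] (I q : Ideal R) [q.IsPrime]
    (hIq : I ≤ q) (hqI : ∀ y ∈ q, ∃ t ∉ q, t * y ∈ I)
    {r : ℕ} (f : Fin r → R) (hf : ∀ i, f i ∈ I)
    (hli : LinearIndependent (R ⧸ I) (fun i => I.toCotangent ⟨f i, hf i⟩))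
    (b : R) (hb : b ∉ q) (hbI : ∀ y ∈ I, b * y ∈ Ideal.span (Set.range f))
    (hreg : IsRegularLocalRing (Localization.AtPrime q)) : q.height = r := by
  set L := Localization.AtPrime q
  let v : Fin r → maximalIdeal L := fun i => ⟨algebraMap R L (f i),
    (Localization.AtPrime.map_eq_maximalIdeal (I := q)) ▸ Ideal.mem_map_of_mem _ (hIq (hf i))⟩
  have hu : ∀ t ∉ q, IsUnit (algebraMap R L t) := fun t ht =>
    IsLocalization.map_units L (⟨t, ht⟩ : q.primeCompl)
  have hgen : Ideal.span (Set.range fun i => (v i : L)) = maximalIdeal L := by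
    refine le_antisymm (Ideal.span_le.2 (by rintro _ ⟨i, rfl⟩; exact (v i).2)) ?_
    refine (Localization.AtPrime.map_eq_maximalIdeal (I := q)).ge.trans (Ideal.map_le_iff_le_comap.2 ?_)
    intro y hy
    obtain ⟨t, ht, hty⟩ := hqI y hy
    have h := Ideal.mem_map_of_mem (algebraMap R L) (hbI _ hty)
    rw [Ideal.map_span, ← Set.range_comp, map_mul, map_mul, Ideal.unit_mul_mem_iff_mem _ (hu b hb),
      Ideal.unit_mul_mem_iff_mem _ (hu t ht)] at h
    exact Ideal.mem_comap.2 h
  let c : Fin r → CotangentSpace L := fun i => (maximalIdeal L).toCotangent (v i)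
  have hspan : Submodule.span (ResidueField L) (Set.range c) = ⊤ := by
    refine top_unique fun z _ => ?_
    obtain ⟨y, rfl⟩ := (maximalIdeal L).toCotangent_surjective z
    have hy : y ∈ Submodule.span L (Set.range v) := by
      have himg : Submodule.map (maximalIdeal L).subtype (Submodule.span L (Set.range v)) = maximalIdeal L := by
        rw [Submodule.map_span, ← Set.range_comp]; exact hgen
      obtain ⟨w, hw, hwy⟩ := Submodule.mem_map.1 (himg.ge y.2)
      rwa [show y = w from Subtype.ext hwy.symm]
    have h2 := Submodule.mem_map_of_mem (f := (maximalIdeal L).toCotangent) hy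
    rw [Submodule.map_span, ← Set.range_comp] at h2
    exact Submodule.span_le_restrictScalars L (ResidueField L) _ h2
  have hind : LinearIndependent (ResidueField L) c := by
    rw [Fintype.linearIndependent_iff]
    intro g hg i
    obtain ⟨a, rfl⟩ : ∃ a : Fin r → L, (fun j => residue L (a j)) = g :=
      ⟨fun j => (residue_surjective (g j)).choose, funext fun j => (residue_surjective (g j)).choose_spec⟩
    obtain ⟨⟨s, hs⟩, hint⟩ := IsLocalization.exist_integer_multiples_of_finite q.primeCompl a
    choose y hy using hint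
    have h1 : (maximalIdeal L).toCotangent (∑ j, algebraMap R L (y j) • v j) = 0 := by
      rw [map_sum]
      have e : ∀ j, (maximalIdeal L).toCotangent (algebraMap R L (y j) • v j) =
          algebraMap R L s • (residue L (a j) • c j) := by
        intro j
        rw [hy, map_smul, Algebra.smul_def, mul_smul]
        rfl
      simp only [e, ← Finset.smul_sum]
      rw [hg, smul_zero]
    rw [Ideal.toCotangent_eq_zero, pow_two] at h1
    have h2 : algebraMap R L (∑ j, y j * f j) ∈ (I * I).map (algebraMap R L) := by
      have hI : maximalIdeal L ≤ I.map (algebraMap R L) := hgen.ge.trans (Ideal.span_le.2 (by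
        rintro _ ⟨j, rfl⟩; exact Ideal.mem_map_of_mem _ (hf j)))
      rw [Ideal.map_mul]
      refine Ideal.mul_mono hI hI ?_
      simpa [map_sum, v, Algebra.smul_def] using h1
    obtain ⟨t, ht, hts⟩ := (IsLocalization.algebraMap_mem_map_algebraMap_iff q.primeCompl L (I * I) _).1 h2
    have h3 : ∑ j, Ideal.Quotient.mk I (t * y j) • I.toCotangent ⟨f j, hf j⟩ = 0 := by
      have h : I.toCotangent (∑ j, (t * y j) • (⟨f j, hf j⟩ : I)) = 0 := by
        rw [Ideal.toCotangent_eq_zero, pow_two]
        simpa [Finset.mul_sum, mul_assoc] using hts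
      rw [map_sum] at h
      rw [← h]
      refine Finset.sum_congr rfl fun j _ => ?_
      rw [map_smul]
      rfl
    have h4 : t * y i ∈ q :=
      hIq (Ideal.Quotient.eq_zero_iff_mem.1 (Fintype.linearIndependent_iff.1 hli _ h3 i))
    have h5 : y i ∈ q := ((Ideal.IsPrime.mem_or_mem inferInstance h4).resolve_left ht)
    have h6 : algebraMap R L s * a i ∈ maximalIdeal L := by
      have h := Ideal.mem_map_of_mem (algebraMap R L) h5
      rw [Localization.AtPrime.map_eq_maximalIdeal, hy, Algebra.smul_def] at h
      exact h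
    rw [Ideal.unit_mul_mem_iff_mem _ (hu s hs)] at h6
    exact (residue_eq_zero_iff _).2 h6
  have hr : (maximalIdeal L).spanFinrank = r := by
    rw [spanFinrank_maximalIdeal_eq_finrank_cotangentSpace,
      Module.finrank_eq_card_basis (Module.Basis.mk hind hspan.ge), Fintype.card_fin]
  have h := hreg.spanFinrank_maximalIdeal
  rw [hr, IsLocalization.AtPrime.ringKrullDim_eq_height q L] at h
  exact_mod_cast h.symm

/-- A point of the source at which the fibre is the reduced conormally free ideal bounds the base height. -/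
theorem height_le_height_comap {B : Type u} {R : Type v} [CommRing B] [CommRing R] [IsNoetherianRing B] [IsNoetherianRing R]
    [Algebra B R] (m : Ideal B) [m.IsPrime] (I q : Ideal R) [q.IsPrime] (hq : q ∈ I.minimalPrimes)
    (hcomap : q.comap (algebraMap B R) = m) (b : R) (hb : b ∉ q)
    (hbI : ∀ y ∈ I, b * y ∈ m.map (algebraMap B R)) : q.height ≤ m.height := by
  have : q.LiesOver m := ⟨hcomap.symm⟩
  refine (Ideal.height_le_height_add_of_liesOver m q).trans ?_
  set J := m.map (algebraMap B R)
  have hJq : J ≤ q := Ideal.map_le_iff_le_comap.2 hcomap.ge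
  have : (q.map (Ideal.Quotient.mk J)).IsPrime := Ideal.isPrime_map_quotientMk_of_isPrime hJq
  have hmem : q ∈ J.minimalPrimes := by
    refine ⟨⟨inferInstance, hJq⟩, fun p hp hpq => hq.2 ⟨hp.1, fun y hy => ?_⟩ hpq⟩
    exact (hp.1.mem_or_mem (hp.2 (hbI y hy))).resolve_left fun h => hb (hpq h)
  have h0 : (q.map (Ideal.Quotient.mk J)).height = 0 := by
    rw [Ideal.height_eq_zero_iff]
    have h : q.map (Ideal.Quotient.mk J) ∈ (J.map (Ideal.Quotient.mk J)).minimalPrimes := by
      rw [Ideal.minimalPrimes_map_of_surjective Ideal.Quotient.mk_surjective, Ideal.mk_ker, sup_idem]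
      exact ⟨q, hmem, rfl⟩
    rw [Ideal.map_quotient_self] at h
    exact h
  rw [h0, add_zero]

end Groth.Agent.LinRed34
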