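import Groth.Agent.GenFree62.Generic
import Groth.Agent.Comod33.CartierReduced
import Groth.Agent.Comod33.Act
import Groth.Agent.LinRed34.Points
import Mathlib.RingTheory.RingHom.Flat
import Mathlib.RingTheory.Flat.FaithfullyFlat.Algebra

/-!
Coordinate rings of homogeneous spaces: faithful flatness and descent of invariant functions.
-/

universe u

open TensorProduct HopfRep

noncomputable section

namespace Groth.Agent.LinRed34

open Groth.Agent.Comod33 Groth.Agent.Comod33.Aug

variable {k : Type u} [Field k] {A : Type u} [CommRing A] [HopfAlgebra k A]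
variable (B : Subalgebra k A)

theorem transl_eq_rc (g : A →ₐ[k] k) (a : A) :
    transl g a = rc g.toLinearMap (CoalgebraStruct.comul (R := k) a) := by
  rw [transl, AlgHom.convMul_apply]
  generalize CoalgebraStruct.comul (R := k) a = z
  induction z with
  | zero => simp
  | add p q hp hq => simp only [map_add, hp, hq]
  | tmul p q => simp [Algebra.smul_def, Algebra.ofId_apply, mul_comm]

variable {B} in
theorem transl_mem (hB : IsSubcomod (k := k) (A := A) (Subalgebra.toSubmodule B)) (g : A →ₐ[k] k) {b : A}
    (hb : b ∈ B) : transl g b ∈ B := by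
  rw [transl_eq_rc]
  exact rc_mem_of_mem_range _ (hB b hb)

theorem point_transl (h g : A →ₐ[k] k) (a : A) :
    h (transl g a) = (WithConv.toConv h * WithConv.toConv g).ofConv a := by
  rw [transl_eq_rc, AlgHom.convMul_apply]
  generalize CoalgebraStruct.comul (R := k) a = z
  induction z with
  | zero => simp
  | add p q hp hq => simp only [map_add, hp, hq]
  | tmul p q => simp [mul_comm]

variable [IsDomain A]

theorem exists_flat_awayMap [Algebra.FiniteType k A] [IsNoetherianRing B] :
    ∃ b : B, b ≠ 0 ∧ (Localization.awayMap (algebraMap B A) b).Flat := by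
  have : Algebra.FiniteType B A := Algebra.FiniteType.of_restrictScalars_finiteType k B A
  obtain ⟨b, hb, hfree⟩ := GenFree62.exists_freeAway (A := B) (B := A) (M := A)
  refine ⟨b, hb, ?_⟩
  set f := Localization.awayMap (algebraMap B A) b
  letI := f.toAlgebra
  have hcomm : ∀ x : B, f (algebraMap B (Localization.Away b) x) =
      algebraMap A (Localization.Away (algebraMap B A b)) (algebraMap B A x) := fun x =>
    IsLocalization.map_eq _ _
  have : IsScalarTower B (Localization.Away b) (Localization.Away (algebraMap B A b)) :=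
    IsScalarTower.of_algebraMap_eq fun x => by
      rw [IsScalarTower.algebraMap_apply B A (Localization.Away (algebraMap B A b))]
      exact (hcomm x).symm
  have hfree' : Module.Free (Localization.Away b) (LocalizedModule (.powers b) A) := hfree.localizedModule
  have : IsLocalization (Algebra.algebraMapSubmonoid A (Submonoid.powers b))
      (Localization.Away (algebraMap B A b)) := by
    rw [Algebra.algebraMapSubmonoid, Submonoid.map_powers]
    exact inferInstanceAs (IsLocalization.Away (algebraMap B A b) _)
  have : IsLocalizedModule (Submonoid.powers b)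
      (IsScalarTower.toAlgHom B A (Localization.Away (algebraMap B A b))).toLinearMap :=
    isLocalizedModule_iff_isLocalization.2 ‹_›
  let e := (IsLocalizedModule.iso (Submonoid.powers b)
    (IsScalarTower.toAlgHom B A (Localization.Away (algebraMap B A b))).toLinearMap).extendScalarsOfIsLocalization
      (Submonoid.powers b) (Localization.Away b)
  have : Module.Flat (Localization.Away b) (Localization.Away (algebraMap B A b)) :=
    Module.Flat.of_linearEquiv e.symm
  exact (RingHom.flat_algebraMap_iff).2 this

variable [IsAlgClosed k] [Algebra.FiniteType k A]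

/-- The group acts transitively on a homogeneous space, whose coordinate ring `A` is thus faithfully flat. -/
theorem faithfullyFlat_of_coideal (hB : IsSubcomod (k := k) (A := A) (Subalgebra.toSubmodule B)) (hfg : B.FG)
    (hsurj : Function.Surjective (PrimeSpectrum.comap (algebraMap B A))) : Module.FaithfullyFlat B A := by
  have : Algebra.FiniteType k B := (Subalgebra.fg_iff_finiteType _).1 hfg
  have : IsNoetherianRing B := Algebra.FiniteType.isNoetherianRing k B
  obtain ⟨b, hb, hflat⟩ := exists_flat_awayMap B
  have hflatB : (algebraMap B A).Flat := by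
    refine RingHom.Flat.propertyIsLocal.ofLocalizationSpan (algebraMap B A)
      {c : B | (Localization.awayMap (algebraMap B A) c).Flat} ?_ fun c => c.2
    by_contra hne
    obtain ⟨P, hP, hle⟩ := Ideal.exists_le_maximal _ hne
    obtain ⟨Q, hQ⟩ := hsurj ⟨P, hP.isPrime⟩
    obtain ⟨m, hm, hQm⟩ := Ideal.exists_le_maximal Q.asIdeal Q.2.ne_top
    obtain ⟨h, rfl⟩ := exists_point_ker (k := k) m
    have hPh : P = Ideal.comap (algebraMap B A) (RingHom.ker h) :=
      hP.eq_of_le (Ideal.comap_ne_top _ (RingHom.ker_ne_top h))
        ((congrArg PrimeSpectrum.asIdeal hQ).ge.trans (Ideal.comap_mono hQm))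
    obtain ⟨h₀, hh₀⟩ : ∃ h₀ : A →ₐ[k] k, h₀ (b : A) ≠ 0 := by
      by_contra hall
      push Not at hall
      have : IsJacobsonRing A := isJacobsonRing_of_finiteType (A := k)
      have hmem : (b : A) ∈ (⊥ : Ideal A).jacobson := Ideal.mem_sInf.2 fun {J} hJ => by
        have := hJ.2
        obtain ⟨g, rfl⟩ := exists_point_ker (k := k) J
        exact hall g
      rw [IsJacobsonRing.out this (Ideal.isPrime_bot (α := A)).isRadical] at hmem
      exact hb (Subtype.ext hmem)
    set g : A →ₐ[k] k := ((WithConv.toConv h)⁻¹ * WithConv.toConv h₀).ofConv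
    let τA : A ≃ₐ[k] A := translEquiv g
    let τB : B ≃ₐ[k] B := AlgEquiv.ofAlgHom
      ((τA.toAlgHom.comp B.val).codRestrict B fun x => transl_mem hB g x.2)
      ((τA.symm.toAlgHom.comp B.val).codRestrict B fun x => transl_mem hB _ x.2)
      (AlgHom.ext fun x => Subtype.ext (τA.apply_symm_apply (x : A)))
      (AlgHom.ext fun x => Subtype.ext (τA.symm_apply_apply (x : A)))
    have hτ : ∀ x : B, algebraMap B A (τB x) = τA (algebraMap B A x) := fun x => rfl
    have hτb : τB b ∉ P := by
      rw [hPh, Ideal.mem_comap, RingHom.mem_ker, hτ]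
      show ¬ h (transl g (b : A)) = 0
      rw [point_transl]
      simp only [g, WithConv.toConv_ofConv]
      rwa [← mul_assoc, mul_inv_cancel, one_mul]
    refine hτb (hle (Ideal.subset_span ?_))
    show (Localization.awayMap (algebraMap B A) (τB b)).Flat
    let eB : Localization.Away (τB b) ≃+* Localization.Away b :=
      IsLocalization.ringEquivOfRingEquiv (M := Submonoid.powers (τB b)) (T := Submonoid.powers b)
        _ _ τB.symm.toRingEquiv (by
        rw [Submonoid.map_powers]
        exact congrArg Submonoid.powers (τB.symm_apply_apply b))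
    let eA : Localization.Away (algebraMap B A b) ≃+* Localization.Away (algebraMap B A (τB b)) :=
      IsLocalization.ringEquivOfRingEquiv (M := Submonoid.powers (algebraMap B A b))
        (T := Submonoid.powers (algebraMap B A (τB b))) _ _ τA.toRingEquiv (by
        rw [Submonoid.map_powers]
        rfl)
    have e : Localization.awayMap (algebraMap B A) (τB b) =
        (eA.toRingHom.comp (Localization.awayMap (algebraMap B A) b)).comp eB.toRingHom := by
      refine IsLocalization.ringHom_ext (Submonoid.powers (τB b)) (RingHom.ext fun x => ?_)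
      simp only [RingHom.comp_apply, RingEquiv.toRingHom_eq_coe, RingEquiv.coe_toRingHom, eA, eB,
        IsLocalization.ringEquivOfRingEquiv_apply, IsLocalization.map_eq, Localization.awayMap,
        IsLocalization.Away.map]
      congr 1
      exact ((hτ _).symm.trans (congrArg (algebraMap B A) (τB.apply_symm_apply x))).symm
    rw [e]
    exact (RingHom.Flat.of_bijective eB.bijective).comp (hflat.comp (RingHom.Flat.of_bijective eA.bijective))
  have : Module.Flat B A := (RingHom.flat_algebraMap_iff).1 hflatB
  exact Module.FaithfullyFlat.of_comap_surjective hsurj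

omit [IsDomain A] [IsAlgClosed k] [Algebra.FiniteType k A] in
/-- Descent along a faithfully flat inclusion. -/
theorem mem_of_tmul_one_eq [Module.FaithfullyFlat B A] {a : A}
    (h : a ⊗ₜ[B] (1 : A) = (1 : A) ⊗ₜ[B] a) : a ∈ B := by
  have h1 := congrArg (LinearMap.lTensor A (LinearMap.range (Algebra.linearMap B A)).mkQ) h
  simp only [LinearMap.lTensor_tmul, Submodule.mkQ_apply] at h1
  rw [(Submodule.Quotient.mk_eq_zero (LinearMap.range (Algebra.linearMap B A))).2
    (LinearMap.mem_range.2 ⟨1, map_one (algebraMap B A)⟩), TensorProduct.tmul_zero] at h1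
  have h2 := Module.FaithfullyFlat.tensorProduct_mk_injective (A := B) (B := A)
    (A ⧸ LinearMap.range (Algebra.linearMap B A)) (a₁ := Submodule.Quotient.mk a) (a₂ := 0)
    (by simpa using h1.symm)
  obtain ⟨x, hx⟩ := (Submodule.Quotient.mk_eq_zero _).1 h2
  exact hx ▸ x.2

omit [IsDomain A] [IsAlgClosed k] [Algebra.FiniteType k A] in
/-- `x ⊗ c ↦ x₁ ⊗ S(x₂) c` -/
def galoisInv : A ⊗[k] A →ₗ[k] A ⊗[B] A :=
  TensorProduct.lift
    { toFun := fun x => (TensorProduct.lift
        ((TensorProduct.mk B A A).restrictScalars₁₂ k k |>.compl₂ (HopfAlgebraStruct.antipode (R := k) (A := A)))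
        (CoalgebraStruct.comul (R := k) x)) |> fun y =>
          (LinearMap.mulLeft k y).comp
            ((Algebra.TensorProduct.includeRight : A →ₐ[B] A ⊗[B] A).restrictScalars k).toLinearMap
      map_add' := fun x y => by ext c; simp [add_mul]
      map_smul' := fun r x => by ext c; simp }

omit [IsDomain A] [IsAlgClosed k] [Algebra.FiniteType k A] in
theorem galoisInv_tmul (x c : A) :
    galoisInv B (x ⊗ₜ[k] c) =
      Algebra.TensorProduct.productMap ((Algebra.TensorProduct.includeLeft : A →ₐ[B] A ⊗[B] A).restrictScalars k)
        (((Algebra.TensorProduct.includeRight : A →ₐ[B] A ⊗[B] A).restrictScalars k).comp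
          (HopfAlgebra.antipodeAlgHom k A)) (CoalgebraStruct.comul (R := k) x) * ((1 : A) ⊗ₜ[B] c) := by
  show (TensorProduct.lift ((TensorProduct.mk B A A).restrictScalars₁₂ k k |>.compl₂
    (HopfAlgebraStruct.antipode (R := k) (A := A))) (CoalgebraStruct.comul (R := k) x)) * ((1 : A) ⊗ₜ[B] c) = _
  congr 1
  generalize CoalgebraStruct.comul (R := k) x = z
  induction z with
  | zero => simp
  | add p q hp hq => simp only [map_add, hp, hq]
  | tmul p q => simp

/-- Functions invariant modulo the stabiliser ideal come from the homogeneous space. -/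
theorem mem_coideal_of_comul_sub_mem (hB : IsSubcomod (k := k) (A := A) (Subalgebra.toSubmodule B)) (hfg : B.FG)
    (hsurj : Function.Surjective (PrimeSpectrum.comap (algebraMap B A))) (J : Ideal A)
    (hJ : J ≤ Ideal.span ((B : Set A) ∩ (RingHom.ker (Bialgebra.counitAlgHom k A) : Set A))) {a : A}
    (ha : CoalgebraStruct.comul (R := k) a - (1 : A) ⊗ₜ[k] a ∈
      LinearMap.range ((J.restrictScalars k).subtype.rTensor A)) : a ∈ B := by
  have := faithfullyFlat_of_coideal B hB hfg hsurj
  refine mem_of_tmul_one_eq B ?_
  let Γ : A →ₐ[k] A ⊗[B] A := (Algebra.TensorProduct.productMap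
    ((Algebra.TensorProduct.includeLeft : A →ₐ[B] A ⊗[B] A).restrictScalars k)
    (((Algebra.TensorProduct.includeRight : A →ₐ[B] A ⊗[B] A).restrictScalars k).comp
      (HopfAlgebra.antipodeAlgHom k A))).comp (Bialgebra.comulAlgHom k A)
  have hΦ : ∀ x c, galoisInv B (x ⊗ₜ[k] c) = Γ x * ((1 : A) ⊗ₜ[B] c) := galoisInv_tmul B
  have hΓB : ∀ b ∈ B, Γ b = algebraMap k (A ⊗[B] A) (Coalgebra.counit (R := k) b) := by
    intro b hb
    obtain ⟨w, hw⟩ := hB b hb
    have h := HopfAlgebra.mul_antipode_lTensor_comul_apply (R := k) b
    have key : ∀ w : ↥(Subalgebra.toSubmodule B) ⊗[k] A,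
        Algebra.TensorProduct.productMap ((Algebra.TensorProduct.includeLeft : A →ₐ[B] A ⊗[B] A).restrictScalars k)
          (((Algebra.TensorProduct.includeRight : A →ₐ[B] A ⊗[B] A).restrictScalars k).comp
            (HopfAlgebra.antipodeAlgHom k A)) ((Subalgebra.toSubmodule B).subtype.rTensor A w) =
          (1 : A) ⊗ₜ[B] (LinearMap.mul' k A ((HopfAlgebraStruct.antipode (R := k) (A := A)).lTensor A
            ((Subalgebra.toSubmodule B).subtype.rTensor A w))) := by
      intro w
      induction w with
      | zero => simp
      | add p q hp hq => simp only [map_add, TensorProduct.tmul_add, hp, hq]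
      | tmul p q =>
        simp only [LinearMap.rTensor_tmul, Submodule.subtype_apply, Algebra.TensorProduct.productMap_apply_tmul,
          AlgHom.comp_apply, AlgHom.restrictScalars_apply, Algebra.TensorProduct.includeLeft_apply,
          Algebra.TensorProduct.includeRight_apply, HopfAlgebra.antipodeAlgHom_apply,
          Algebra.TensorProduct.tmul_mul_tmul, mul_one, one_mul, LinearMap.lTensor_tmul, LinearMap.mul'_apply]
        rw [show (p : A) = (⟨p, p.2⟩ : B) • (1 : A) from (mul_one (p : A)).symm, TensorProduct.smul_tmul,
          show (⟨p, p.2⟩ : B) • (1 : A) = (p : A) from mul_one (p : A)]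
        rfl
    show Algebra.TensorProduct.productMap _ _ (CoalgebraStruct.comul (R := k) b) = _
    rw [show CoalgebraStruct.comul (R := k) b = (Subalgebra.toSubmodule B).subtype.rTensor A w from hw.symm, key,
      show (Subalgebra.toSubmodule B).subtype.rTensor A w = CoalgebraStruct.comul (R := k) b from hw, h,
      Algebra.algebraMap_eq_smul_one, Algebra.algebraMap_eq_smul_one, TensorProduct.tmul_smul,
      Algebra.TensorProduct.one_def]
  have hJ0 : ∀ j ∈ J, Γ j = 0 := by
    intro j hj
    have h : Ideal.span ((B : Set A) ∩ (RingHom.ker (Bialgebra.counitAlgHom k A) : Set A)) ≤ RingHom.ker Γ := by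
      refine Ideal.span_le.2 ?_
      rintro b ⟨hb, hb0⟩
      rw [SetLike.mem_coe, RingHom.mem_ker, hΓB b hb,
        show Coalgebra.counit (R := k) b = 0 from hb0, map_zero]
    exact h (hJ hj)
  have hzero : galoisInv B (CoalgebraStruct.comul (R := k) a - (1 : A) ⊗ₜ[k] a) = 0 := by
    obtain ⟨y, hy⟩ := ha
    rw [← hy]
    clear hy
    induction y with
    | zero => simp
    | add p q hp hq => rw [map_add, map_add, hp, hq, add_zero]
    | tmul j c => rw [LinearMap.rTensor_tmul, hΦ, show Γ ((J.restrictScalars k).subtype j) = 0 from hJ0 _ j.2, zero_mul]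
  rw [map_sub, hΦ, map_one, one_mul] at hzero
  rw [← sub_eq_zero]
  refine Eq.trans ?_ hzero
  congr 1
  have e : ∀ v : A ⊗[k] A, galoisInv B v =
      (TensorProduct.lift ((TensorProduct.mk B A A).restrictScalars₁₂ k k))
        ((LinearMap.mul' k A ∘ₗ (HopfAlgebraStruct.antipode (R := k) (A := A)).rTensor A).lTensor A
          (TensorProduct.assoc k A A A ((CoalgebraStruct.comul (R := k) (A := A)).rTensor A v))) := by
    intro v
    induction v with
    | zero => simp
    | add p q hp hq => simp only [map_add, hp, hq]
    | tmul x c =>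
      rw [hΦ, LinearMap.rTensor_tmul]
      show Algebra.TensorProduct.productMap _ _ (CoalgebraStruct.comul (R := k) x) * _ = _
      generalize CoalgebraStruct.comul (R := k) x = z
      induction z with
      | zero => simp
      | add p q hp hq => simp only [map_add, add_mul, TensorProduct.add_tmul, hp, hq]
      | tmul p q => simp
  rw [e, Coalgebra.coassoc_apply, ← LinearMap.comp_apply (LinearMap.lTensor A _), ← LinearMap.lTensor_comp,
    LinearMap.comp_assoc, HopfAlgebra.mul_antipode_rTensor_comul, LinearMap.lTensor_comp, LinearMap.comp_apply,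
    Coalgebra.lTensor_counit_comul]
  simp

end Groth.Agent.LinRed34
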