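import Groth.Agent.LinRed34.Coideal
import Groth.Agent.LinRed34.Ring

/-!
Characters trivial on the stabiliser of a closed orbit are semi-invariants not vanishing on it.
-/

universe u

open TensorProduct HopfRep

noncomputable section

namespace Groth.Agent.LinRed34

open Groth.Agent.Comod33

variable {k : Type u} [Field k] {A : Type u} [CommRing A] [HopfAlgebra k A]
variable {R : Type u} [CommRing R] [Algebra k R] [Comod k A R] [GLin.IsCoactAlg k A R]

theorem counit_orbitHom (x : R →ₐ[k] k) (f : R) :
    Coalgebra.counit (R := k) (GLin.orbitHom k A x f) = x f := by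
  show Coalgebra.counit ((Algebra.TensorProduct.lid k A) (Algebra.TensorProduct.map x (AlgHom.id k A)
    (Comod.coact (k := k) (A := A) f))) = _
  conv_rhs => rw [← dact_counit (k := k) (A := A) (V := R) f, dact_apply]
  generalize Comod.coact (k := k) (A := A) f = t
  induction t with
  | zero => simp
  | tmul r a => simp [mul_comm]
  | add p q hp hq => simp only [map_add, hp, hq]

theorem surjective_comap_range {x : R →ₐ[k] k} (hx : GLin.IsClosedOrbit k A x) :
    Function.Surjective (PrimeSpectrum.comap (algebraMap (GLin.orbitHom k A x).range A)) := by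
  intro P
  let π : R →+* (GLin.orbitHom k A x).range := (GLin.orbitHom k A x).rangeRestrict.toRingHom
  have hπ : Function.Surjective π := (GLin.orbitHom k A x).rangeRestrict_surjective
  have hcomp : (algebraMap (GLin.orbitHom k A x).range A).comp π = (GLin.orbitHom k A x).toRingHom := rfl
  have hmem : PrimeSpectrum.comap π P ∈ Set.range (PrimeSpectrum.comap (GLin.orbitHom k A x).toRingHom) := by
    rw [← hx.closure_eq, PrimeSpectrum.closure_range_comap, PrimeSpectrum.mem_zeroLocus]
    intro f hf
    show π f ∈ P.asIdeal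
    rw [show π f = 0 from Subtype.ext hf]
    exact Submodule.zero_mem _
  obtain ⟨Q, hQ⟩ := hmem
  refine ⟨Q, PrimeSpectrum.comap_injective_of_surjective π hπ ?_⟩
  rw [← hQ, ← hcomp, PrimeSpectrum.comap_comp]
  rfl

variable [IsDomain A] [IsAlgClosed k] [Algebra.FiniteType k A] [Algebra.FiniteType k R]

/-- A function on the group invariant modulo the stabiliser of a closed orbit comes from the orbit. -/
theorem mem_range_orbitHom {x : R →ₐ[k] k} (hx : GLin.IsClosedOrbit k A x) {a : A}
    (ha : CoalgebraStruct.comul (R := k) a - (1 : A) ⊗ₜ[k] a ∈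
      LinearMap.range (((GLin.stabIdeal k A x).restrictScalars k).subtype.rTensor A)) :
    a ∈ (GLin.orbitHom k A x).range := by
  set φ := GLin.orbitHom k A x
  refine mem_coideal_of_comul_sub_mem φ.range ?_ ?_ (surjective_comap_range hx) _ ?_ ha
  · intro b hb
    obtain ⟨r, rfl⟩ := hb
    have h := LinearMap.congr_fun (isComodHom_orbitHom A x) r
    simp only [LinearMap.comp_apply, AlgHom.toLinearMap_apply] at h
    rw [show Comod.coact (k := k) (A := A) (φ.toRingHom r) = _ from h]
    generalize Comod.coact (k := k) (A := A) r = z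
    induction z with
    | zero => simp
    | add p q hp hq => rw [map_add]; exact Submodule.add_mem _ hp hq
    | tmul p c => exact ⟨(⟨φ p, ⟨p, rfl⟩⟩ : Subalgebra.toSubmodule φ.range) ⊗ₜ[k] c, by simp [φ]⟩
  · rw [← Algebra.map_top]
    exact Subalgebra.FG.map φ (inferInstance : Algebra.FiniteType k R).out
  · refine Ideal.map_le_iff_le_comap.2 fun r hr => Ideal.subset_span ⟨⟨r, rfl⟩, ?_⟩
    show Bialgebra.counitAlgHom k A (φ r) = 0
    exact (counit_orbitHom x r).trans (RingHom.mem_ker.1 hr)

/-- Semi-invariants detect characters trivial on the stabiliser of a closed orbit. -/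
theorem exists_semiInvariant (hG : IsLinearlyReductive k A) {x : R →ₐ[k] k} (hx : GLin.IsClosedOrbit k A x)
    {χ : A} (hχ : IsGroupLikeElem k χ) (h : χ - 1 ∈ GLin.stabIdeal k A x) :
    ∃ f : R, Comod.coact (k := k) (A := A) f = f ⊗ₜ[k] χ ∧ x f = 1 := by
  have hr : χ ∈ (GLin.orbitHom k A x).range := mem_range_orbitHom hx
    ⟨(⟨χ - 1, h⟩ : (GLin.stabIdeal k A x).restrictScalars k) ⊗ₜ[k] χ, by
      rw [LinearMap.rTensor_tmul, hχ.comul_eq_tmul_self]
      exact TensorProduct.sub_tmul _ _ _⟩
  obtain ⟨r, hr⟩ := hr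
  have hφ := isComodHom_orbitHom A x
  let T := toDualLinear (k := k) (A := A) (V := R) (W := A) _ hφ
  have := isSemisimpleModule hG R
  obtain ⟨s, hs⟩ := exists_isCompl (LinearMap.ker T)
  obtain ⟨u, hu, v, hv, huv⟩ := Submodule.mem_sup.1 (hs.sup_eq_top.ge (Submodule.mem_top (x := r)))
  have hTv : GLin.orbitHom k A x v = χ := by
    have h1 : GLin.orbitHom k A x u = 0 := LinearMap.mem_ker.1 hu
    rw [← hr, ← huv]
    show _ = GLin.orbitHom k A x (u + v)
    rw [map_add, h1, zero_add]
  refine ⟨v, eq_of_rc fun g => ?_, ?_⟩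
  · rw [rc_tmul, ← dact_apply]
    have h1 : dact g v - g χ • v ∈ LinearMap.ker T := by
      rw [LinearMap.mem_ker]
      show GLin.orbitHom k A x (dact g v - g χ • v) = 0
      rw [map_sub, map_smul, show GLin.orbitHom k A x (dact g v) = dact g (GLin.orbitHom k A x v) from
        (isComodHom_iff _).1 hφ g v, hTv]
      show rc g (CoalgebraStruct.comul (R := k) χ) - _ = 0
      rw [hχ.comul_eq_tmul_self, rc_tmul, sub_self]
    have h2 : dact g v - g χ • v ∈ s :=
      s.sub_mem (show dact g v ∈ s from s.smul_mem (WithConv.toConv g) hv) (s.smul_of_tower_mem _ hv)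
    exact sub_eq_zero.1 (Submodule.disjoint_def.1 hs.disjoint _ h1 h2)
  · rw [← counit_orbitHom (A := A) x v, hTv, hχ.counit_eq_one]

end Groth.Agent.LinRed34
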